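import Mathlib

/-! Central extension of abelian groups attached to a symmetric two-cocycle. -/

universe u v

namespace SymCocLib

/-- A symmetric two-cocycle on `P` with values in `K`. -/
structure Cocycle (P : Type u) (K : Type v) [AddCommGroup P] [AddCommGroup K] where
  toFun : P → P → K
  symm : ∀ p q, toFun p q = toFun q p
  cocycle : ∀ p q r, toFun (p + q) r + toFun p q = toFun p (q + r) + toFun q r

variable {P : Type u} {K : Type v} [AddCommGroup P] [AddCommGroup K] (c : Cocycle P K)

lemma Cocycle.zero_left (p : P) : c.toFun 0 p = c.toFun 0 0 := by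
  have h := c.cocycle 0 0 p
  rw [zero_add, zero_add] at h
  exact (add_left_cancel h).symm

/-- The extension of `P` by `K` attached to `c`. -/
@[ext]
structure Ext (c : Cocycle P K) where
  fst : K
  snd : P

instance : Add (Ext c) := ⟨fun x y => ⟨x.fst + y.fst + c.toFun x.snd y.snd, x.snd + y.snd⟩⟩
instance : Zero (Ext c) := ⟨⟨-c.toFun 0 0, 0⟩⟩
instance : Neg (Ext c) := ⟨fun x => ⟨-x.fst - c.toFun x.snd (-x.snd) - c.toFun 0 0, -x.snd⟩⟩

lemma add_fst (x y : Ext c) : (x + y).fst = x.fst + y.fst + c.toFun x.snd y.snd := rfl
lemma add_snd (x y : Ext c) : (x + y).snd = x.snd + y.snd := rfl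
lemma zero_fst : (0 : Ext c).fst = -c.toFun 0 0 := rfl
lemma zero_snd : (0 : Ext c).snd = 0 := rfl
lemma neg_fst (x : Ext c) :
    (-x).fst = -x.fst - c.toFun x.snd (-x.snd) - c.toFun 0 0 := rfl
lemma neg_snd (x : Ext c) : (-x).snd = -x.snd := rfl

instance : AddCommGroup (Ext c) where
  nsmul := nsmulRec
  zsmul := zsmulRec
  add_assoc x y z := by
    ext
    · have h := c.cocycle x.snd y.snd z.snd
      simp only [add_fst, add_snd]
      calc _ = x.fst + y.fst + z.fst + (c.toFun (x.snd + y.snd) z.snd + c.toFun x.snd y.snd) := by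
            abel
        _ = _ := by rw [h]; abel
    · simp [add_snd, add_assoc]
  zero_add x := by
    ext
    · simp only [add_fst, zero_fst, zero_snd, c.zero_left x.snd]; abel
    · simp [add_snd, zero_snd]
  add_zero x := by
    ext
    · simp only [add_fst, zero_fst, zero_snd, c.symm x.snd 0, c.zero_left x.snd]; abel
    · simp [add_snd, zero_snd]
  add_comm x y := by
    ext
    · simp only [add_fst, c.symm x.snd y.snd]; abel
    · simp [add_snd, add_comm]
  neg_add_cancel x := by
    ext
    · simp only [add_fst, neg_fst, zero_fst, neg_snd, c.symm (-x.snd) x.snd]; abel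
    · simp [add_snd, neg_snd, zero_snd]

/-- The inclusion of `K` into the extension. -/
def incl : K →+ Ext c where
  toFun a := ⟨a - c.toFun 0 0, 0⟩
  map_zero' := by ext <;> simp [zero_fst, zero_snd]
  map_add' a b := by
    ext
    · simp only [add_fst]; abel
    · simp [add_snd]

lemma incl_injective : Function.Injective (incl c) := fun a b h => by
  simpa [incl] using congrArg Ext.fst h

/-- The set-theoretic section. -/
def sec (p : P) : Ext c := ⟨0, p⟩

lemma sec_add (p q : P) : sec c p + sec c q = incl c (c.toFun p q) + sec c (p + q) := by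
  ext
  · simp only [add_fst, sec, incl, AddMonoidHom.coe_mk, ZeroHom.coe_mk, c.zero_left (p + q)]; abel
  · simp [add_snd, sec, incl]

end SymCocLib
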